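import Cfsg.Agent.H201.T5Alt
import Cfsg.Agent.H533.Wf.Kills

/-!
# S3826: the row of the alternating groups, `p = 3` (helper220, task 4016 of helper534)

Two elements of order 3 of an alternating group of degree `≥ 5` have conjugates which generate a group with an orbit of
length 4 or 6.
-/

set_option autoImplicit false

namespace Cfsg.Agent.H220.Wf.Alt

open Equiv Equiv.Perm Cfsg.Agent.H533.T5 Cfsg.Agent.H533.Wf

universe u

section perm

variable {α : Type*} [Fintype α] [DecidableEq α]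

/-- A group with an orbit whose length is not a power of 3. -/
theorem not_isPGroup_of_orbit {x y : alternatingGroup α} (Δ : Finset α) {a : α} (ha : a ∈ Δ)
    (hx : ∀ z ∈ Δ, (x : Perm α) z ∈ Δ) (hy : ∀ z ∈ Δ, (y : Perm α) z ∈ Δ)
    (htr : ∀ z ∈ Δ, ∃ g ∈ Subgroup.closure ({x, y} : Set (alternatingGroup α)), (g : Perm α) a = z)
    (hc : ∀ k : ℕ, Δ.card ≠ 3 ^ k) :
    ¬ IsPGroup 3 ↥(Subgroup.closure ({x, y} : Set (alternatingGroup α))) := by
  intro hP
  have : Fact (Nat.Prime 3) := ⟨Nat.prime_three⟩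
  set K := Subgroup.closure ({x, y} : Set (alternatingGroup α)) with hK
  obtain ⟨k, hk⟩ := hP.card_orbit a
  apply hc k
  rw [← hk]
  have key : ∀ g ∈ K, ∀ z ∈ Δ, (g : Perm α) z ∈ Δ := by
    intro g hg
    induction hg using Subgroup.closure_induction with
    | mem g hg =>
      rcases hg with rfl | rfl
      · exact hx
      · exact hy
    | one => intro z hz; exact hz
    | mul g h _ _ ihg ihh => intro z hz; exact ihg _ (ihh z hz)
    | inv g _ ih =>
      intro z hz
      exact Equiv.Perm.perm_symm_on_of_perm_on_finset ih hz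
  have h1 : MulAction.orbit K a = (Δ : Set α) := by
    apply Set.Subset.antisymm
    · rintro _ ⟨g, rfl⟩
      exact key g g.2 a ha
    · intro z hz
      obtain ⟨g, hg, rfl⟩ := htr z hz
      exact ⟨⟨g, hg⟩, rfl⟩
  rw [h1]
  simp

/-- Even permutations with prescribed values, up to a swap. -/
theorem exists_even {k : ℕ} {p q : Fin (k + 3) → α} (hp : Function.Injective p) (hq : Function.Injective q) :
    ∃ g : alternatingGroup α, (∀ i, (g : Perm α) (p i) = q i) ∨
      (∀ i, (g : Perm α) (p i) = swap (q 0) (q 1) (q i)) := by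
  have := Equiv.Perm.isMultiplyPretransitive α (k + 3)
  obtain ⟨g, hg⟩ := MulAction.exists_smul_eq (Perm α) (⟨p, hp⟩ : Fin (k + 3) ↪ α) ⟨q, hq⟩
  have hg' : ∀ i, g (p i) = q i := fun i => DFunLike.congr_fun hg i
  rcases Int.units_eq_one_or (sign g) with h | h
  · exact ⟨⟨g, h⟩, Or.inl hg'⟩
  · refine ⟨⟨swap (q 0) (q 1) * g, ?_⟩, Or.inr fun i => ?_⟩
    · rw [mem_alternatingGroup, Perm.sign_mul, h, sign_swap (hq.ne (by simp))]
      rfl
    · show swap (q 0) (q 1) (g (p i)) = _
      rw [hg']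

/-- A conjugate of `y` leaving the set of the `q i` invariant. -/
theorem exists_conj {k : ℕ} {p q : Fin (k + 3) → α} (hp : Function.Injective p) (hq : Function.Injective q)
    (y : alternatingGroup α) (hy : ∀ i, ∃ j, (y : Perm α) (p i) = p j) (h1 : (y : Perm α) (p 1) = p 2) :
    ∃ g : alternatingGroup α, (∀ i, ∃ j, ((g * y * g⁻¹ : alternatingGroup α) : Perm α) (q i) = q j) ∧
      (((g * y * g⁻¹ : alternatingGroup α) : Perm α) (q 1) = q 2 ∨
        ((g * y * g⁻¹ : alternatingGroup α) : Perm α) (q 0) = q 2) := by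
  obtain ⟨g, hg⟩ := exists_even hp hq
  have hap : ∀ z, ((g * y * g⁻¹ : alternatingGroup α) : Perm α) ((g : Perm α) z) = (g : Perm α) ((y : Perm α) z) := by
    intro z
    show (g : Perm α) ((y : Perm α) ((g : Perm α)⁻¹ ((g : Perm α) z))) = _
    simp
  have v2 : ((2 : Fin (k + 3)) : ℕ) = 2 := Nat.mod_eq_of_lt (show 2 < k + 3 by omega)
  have v1 : ((1 : Fin (k + 3)) : ℕ) = 1 := Nat.mod_eq_of_lt (show 1 < k + 3 by omega)
  have h02 : q 2 ≠ q 0 := hq.ne (by
    intro h
    have h3 := congrArg Fin.val h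
    rw [v2] at h3
    exact absurd h3 (by simp))
  have h12 : q 2 ≠ q 1 := hq.ne (by
    intro h
    have h3 := congrArg Fin.val h
    rw [v2, v1] at h3
    exact absurd h3 (by norm_num))
  refine ⟨g, ?_, ?_⟩
  · rcases hg with hg | hg
    · intro i
      obtain ⟨j, hj⟩ := hy i
      exact ⟨j, by rw [← hg i, hap, hj, hg]⟩
    · intro i
      -- `q i = g (p i')`
      have hsw : ∀ i : Fin (k + 3), ∃ j, swap (q 0) (q 1) (q i) = q j := by
        intro i
        by_cases hi0 : i = 0
        · exact ⟨1, by rw [hi0, swap_apply_left]⟩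
        · by_cases hi1 : i = 1
          · exact ⟨0, by rw [hi1, swap_apply_right]⟩
          · exact ⟨i, swap_apply_of_ne_of_ne (hq.ne hi0) (hq.ne hi1)⟩
      obtain ⟨i', hi'⟩ := hsw i
      have h3 : q i = (g : Perm α) (p i') := by
        rw [hg, ← hi', swap_apply_self]
      obtain ⟨j, hj⟩ := hy i'
      rw [h3, hap, hj, hg]
      exact hsw j
  · rcases hg with hg | hg
    · left
      rw [← hg 1, hap, h1, hg]
    · right
      have h3 : q 0 = (g : Perm α) (p 1) := by rw [hg, swap_apply_right]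
      conv_lhs => rw [h3]
      rw [hap, h1, hg, swap_apply_of_ne_of_ne h02 h12]

/-- The main construction. -/
theorem wpair_main {k : ℕ} {p q : Fin (k + 3) → α} (hp : Function.Injective p) (hq : Function.Injective q)
    (x y : alternatingGroup α) (hx : ∀ i, ∃ j, (x : Perm α) (q i) = q j)
    (hy : ∀ i, ∃ j, (y : Perm α) (p i) = p j) (hx0 : (x : Perm α) (q 0) = q 1)
    (h1 : (y : Perm α) (p 1) = p 2)
    (htr : ∀ i, (∃ m : ℕ, ((x : Perm α) ^ m) (q 0) = q i) ∨ (∃ m : ℕ, ((x : Perm α) ^ m) (q 2) = q i))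
    (hc : ∀ j : ℕ, k + 3 ≠ 3 ^ j) : WPair 3 (⊤ : Subgroup (alternatingGroup α)) x y := by
  obtain ⟨g, hg1, hg2⟩ := exists_conj hp hq y hy h1
  refine ⟨g, Subgroup.mem_top g, ?_⟩
  set y' := g * y * g⁻¹ with hy'
  set K := Subgroup.closure ({x, y'} : Set (alternatingGroup α)) with hK
  have hxK : x ∈ K := Subgroup.subset_closure (by simp)
  have hyK : y' ∈ K := Subgroup.subset_closure (by simp)
  have h2 : ∃ g ∈ K, (g : Perm α) (q 0) = q 2 := by
    rcases hg2 with h | h
    · exact ⟨y' * x, mul_mem hyK hxK, by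
        show (y' : Perm α) ((x : Perm α) (q 0)) = q 2
        rw [hx0, h]⟩
    · exact ⟨y', hyK, h⟩
  refine not_isPGroup_of_orbit (Finset.univ.image q) (a := q 0) (Finset.mem_image_of_mem _ (Finset.mem_univ _))
    ?_ ?_ ?_ ?_
  · intro z hz
    obtain ⟨i, -, rfl⟩ := Finset.mem_image.1 hz
    obtain ⟨j, hj⟩ := hx i
    rw [hj]
    exact Finset.mem_image_of_mem _ (Finset.mem_univ _)
  · intro z hz
    obtain ⟨i, -, rfl⟩ := Finset.mem_image.1 hz
    obtain ⟨j, hj⟩ := hg1 i
    rw [hj]
    exact Finset.mem_image_of_mem _ (Finset.mem_univ _)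
  · intro z hz
    obtain ⟨i, -, rfl⟩ := Finset.mem_image.1 hz
    rcases htr i with ⟨m, hm⟩ | ⟨m, hm⟩
    · exact ⟨x ^ m, pow_mem hxK m, by rw [Subgroup.coe_pow]; exact hm⟩
    · obtain ⟨g2, hg2K, hg2⟩ := h2
      refine ⟨x ^ m * g2, mul_mem (pow_mem hxK m) hg2K, ?_⟩
      rw [Subgroup.coe_mul, Subgroup.coe_pow, Perm.mul_apply, hg2, hm]
  · intro j
    rw [Finset.card_image_of_injective _ hq, Finset.card_univ, Fintype.card_fin]
    exact hc j

omit [Fintype α] [DecidableEq α] in
/-- The points of a 3-cycle. -/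
theorem cyc3 {x : Perm α} (hx : x ^ 3 = 1) {a : α} (ha : x a ≠ a) :
    x (x (x a)) = a ∧ a ≠ x a ∧ a ≠ x (x a) ∧ x a ≠ x (x a) := by
  have h3 : x (x (x a)) = a := by
    have h := DFunLike.congr_fun hx a
    rwa [pow_succ, pow_two, Perm.mul_apply, Perm.mul_apply] at h
  refine ⟨h3, ha.symm, fun h => ha ?_, fun h => ha (x.injective h).symm⟩
  rw [← h] at h3
  exact h3

theorem pow_three {x : alternatingGroup α} (hx : orderOf x = 3) : (x : Perm α) ^ 3 = 1 := by
  rw [← Subgroup.coe_pow, ← hx, pow_orderOf_eq_one, Subgroup.coe_one]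

theorem exists_moved {x : alternatingGroup α} (hx : orderOf x = 3) : ∃ a : α, (x : Perm α) a ≠ a := by
  by_contra h
  push Not at h
  have : x = 1 := Subtype.ext (Equiv.ext h)
  rw [this, orderOf_one] at hx
  omega

theorem pow_ne_four (j : ℕ) : 1 + 3 ≠ 3 ^ j := by
  rcases j with _ | _ | j
  · norm_num
  · norm_num
  · rw [pow_succ, pow_succ]
    have := Nat.one_le_pow j 3 (by norm_num)
    omega

theorem pow_ne_six (j : ℕ) : 3 + 3 ≠ 3 ^ j := by
  rcases j with _ | _ | j
  · norm_num
  · norm_num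
  · rw [pow_succ, pow_succ]
    have := Nat.one_le_pow j 3 (by norm_num)
    omega

/-- Both elements have a fixed point. -/
theorem wpair_fix {x y : alternatingGroup α} (hx : orderOf x = 3) (hy : orderOf y = 3) {e f : α}
    (he : (x : Perm α) e = e) (hf : (y : Perm α) f = f) : WPair 3 (⊤ : Subgroup (alternatingGroup α)) x y := by
  obtain ⟨a, ha⟩ := exists_moved hx
  obtain ⟨u, hu⟩ := exists_moved hy
  obtain ⟨a1, a2, a3, a4⟩ := cyc3 (pow_three hx) ha
  obtain ⟨u1, u2, u3, u4⟩ := cyc3 (pow_three hy) hu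
  have e1 : e ≠ a := fun h => ha (by rw [← h]; exact he)
  have e2 : e ≠ (x : Perm α) a := fun h => a4 (by rw [← h]; exact he.symm)
  have e3 : e ≠ (x : Perm α) ((x : Perm α) a) := fun h => a3 (by rw [h, a1] at he; exact he)
  have f1 : f ≠ u := fun h => hu (by rw [← h]; exact hf)
  have f2 : f ≠ (y : Perm α) u := fun h => u4 (by rw [← h]; exact hf.symm)
  have f3 : f ≠ (y : Perm α) ((y : Perm α) u) := fun h => u3 (by rw [h, u1] at hf; exact hf)
  refine wpair_main (k := 1) (p := ![u, (y : Perm α) u, (y : Perm α) ((y : Perm α) u), f])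
    (q := ![a, (x : Perm α) a, e, (x : Perm α) ((x : Perm α) a)]) ?_ ?_ x y ?_ ?_ rfl rfl ?_ pow_ne_four
  · exact List.nodup_ofFn.1 (by simp [f1.symm, f2.symm, f3.symm, u2, u3, u4])
  · exact List.nodup_ofFn.1 (by simp [e1.symm, e2.symm, e3, a2, a3, a4])
  · intro i
    fin_cases i
    · exact ⟨1, rfl⟩
    · exact ⟨3, rfl⟩
    · exact ⟨2, he⟩
    · exact ⟨0, a1⟩
  · intro i
    fin_cases i
    · exact ⟨1, rfl⟩
    · exact ⟨2, rfl⟩
    · exact ⟨0, u1⟩
    · exact ⟨3, hf⟩
  · intro i
    fin_cases i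
    · exact Or.inl ⟨0, rfl⟩
    · exact Or.inl ⟨1, by rw [pow_one]; rfl⟩
    · exact Or.inr ⟨0, rfl⟩
    · exact Or.inl ⟨2, by rw [pow_two]; rfl⟩

/-- The first element has no fixed point. -/
theorem wpair_free (h5 : 5 ≤ Fintype.card α) {x y : alternatingGroup α} (hx : orderOf x = 3) (hy : orderOf y = 3)
    (hfree : ∀ a, (x : Perm α) a ≠ a) : WPair 3 (⊤ : Subgroup (alternatingGroup α)) x y := by
  obtain ⟨a, ha⟩ := exists_moved hx
  obtain ⟨u, hu⟩ := exists_moved hy
  obtain ⟨a1, a2, a3, a4⟩ := cyc3 (pow_three hx) ha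
  obtain ⟨u1, u2, u3, u4⟩ := cyc3 (pow_three hy) hu
  -- a second cycle of `x`
  obtain ⟨b, hb⟩ : ∃ b, b ∉ ({a, (x : Perm α) a, (x : Perm α) ((x : Perm α) a)} : Finset α) := by
    by_contra h
    push Not at h
    have h1 : Finset.univ ⊆ ({a, (x : Perm α) a, (x : Perm α) ((x : Perm α) a)} : Finset α) := fun z _ => h z
    have h2 := Finset.card_le_card h1
    have h3 : ({a, (x : Perm α) a, (x : Perm α) ((x : Perm α) a)} : Finset α).card ≤ 3 := Finset.card_le_three
    rw [Finset.card_univ] at h2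
    omega
  simp only [Finset.mem_insert, Finset.mem_singleton, not_or] at hb
  obtain ⟨hb1, hb2, hb3⟩ := hb
  obtain ⟨b1, b2, b3, b4⟩ := cyc3 (pow_three hx) (hfree b)
  have c1 : (x : Perm α) b ≠ a := fun h => hb3 ((x : Perm α).injective (h.trans a1.symm))
  have c2 : (x : Perm α) b ≠ (x : Perm α) a := fun h => hb1 ((x : Perm α).injective h)
  have c3 : (x : Perm α) b ≠ (x : Perm α) ((x : Perm α) a) := fun h => hb2 ((x : Perm α).injective h)
  have d1 : (x : Perm α) ((x : Perm α) b) ≠ a := fun h => c3 ((x : Perm α).injective (h.trans a1.symm))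
  have d2 : (x : Perm α) ((x : Perm α) b) ≠ (x : Perm α) a := fun h => c1 ((x : Perm α).injective h)
  have d3 : (x : Perm α) ((x : Perm α) b) ≠ (x : Perm α) ((x : Perm α) a) := fun h => c2 ((x : Perm α).injective h)
  have hq : Function.Injective ![a, (x : Perm α) a, b, (x : Perm α) ((x : Perm α) a), (x : Perm α) b,
      (x : Perm α) ((x : Perm α) b)] :=
    List.nodup_ofFn.1 (by simp [a2, a3, a4, b2, b3, b4, hb3, c1.symm, c2.symm, c3.symm, d1.symm, d2.symm,
      d3.symm, Ne.symm hb1, Ne.symm hb2])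
  have h6 : 6 ≤ Fintype.card α := by
    have := Fintype.card_le_of_injective _ hq
    simpa using this
  -- three more points for `y`
  obtain ⟨f, hf, hfy⟩ : ∃ f : Fin 3 → α, Function.Injective ![u, (y : Perm α) u, (y : Perm α) ((y : Perm α) u), f 0, f 1, f 2] ∧
      ∀ i, ∃ j, (y : Perm α) (f i) = f j := by
    by_cases hm : ∃ b, b ∉ ({u, (y : Perm α) u, (y : Perm α) ((y : Perm α) u)} : Finset α) ∧ (y : Perm α) b ≠ b
    · obtain ⟨v, hv, hvm⟩ := hm
      simp only [Finset.mem_insert, Finset.mem_singleton, not_or] at hv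
      obtain ⟨hv1, hv2, hv3⟩ := hv
      obtain ⟨v1, v2, v3, v4⟩ := cyc3 (pow_three hy) hvm
      have w1 : (y : Perm α) v ≠ u := fun h => hv3 ((y : Perm α).injective (h.trans u1.symm))
      have w2 : (y : Perm α) v ≠ (y : Perm α) u := fun h => hv1 ((y : Perm α).injective h)
      have w3 : (y : Perm α) v ≠ (y : Perm α) ((y : Perm α) u) := fun h => hv2 ((y : Perm α).injective h)
      have t1 : (y : Perm α) ((y : Perm α) v) ≠ u := fun h =>
        w3 ((y : Perm α).injective (h.trans u1.symm))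
      have t2 : (y : Perm α) ((y : Perm α) v) ≠ (y : Perm α) u := fun h => w1 ((y : Perm α).injective h)
      have t3 : (y : Perm α) ((y : Perm α) v) ≠ (y : Perm α) ((y : Perm α) u) := fun h => w2 ((y : Perm α).injective h)
      refine ⟨![v, (y : Perm α) v, (y : Perm α) ((y : Perm α) v)], ?_, ?_⟩
      · exact List.nodup_ofFn.1 (by simp [u2, u3, u4, v2, v3, v4, w1.symm, w2.symm, w3.symm, t1.symm, t2.symm, t3.symm,
          Ne.symm hv1, Ne.symm hv2, Ne.symm hv3])
      · intro i
        fin_cases i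
        · exact ⟨1, rfl⟩
        · exact ⟨2, rfl⟩
        · exact ⟨0, v1⟩
    · push Not at hm
      have h1 : 2 < (Finset.univ \ ({u, (y : Perm α) u, (y : Perm α) ((y : Perm α) u)} : Finset α)).card := by
        have h2 := Finset.le_card_sdiff ({u, (y : Perm α) u, (y : Perm α) ((y : Perm α) u)} : Finset α)
          (Finset.univ : Finset α)
        have h3 : ({u, (y : Perm α) u, (y : Perm α) ((y : Perm α) u)} : Finset α).card ≤ 3 := Finset.card_le_three
        rw [Finset.card_univ] at h2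
        omega
      obtain ⟨r, s, t, hr, hs, ht, hrs, hrt, hst⟩ := Finset.two_lt_card_iff.1 h1
      have hr' := (Finset.mem_sdiff.1 hr).2
      have hs' := (Finset.mem_sdiff.1 hs).2
      have ht' := (Finset.mem_sdiff.1 ht).2
      have r1 := hm r hr'
      have s1 := hm s hs'
      have t1 := hm t ht'
      simp only [Finset.mem_insert, Finset.mem_singleton, not_or] at hr' hs' ht'
      refine ⟨![r, s, t], ?_, ?_⟩
      · exact List.nodup_ofFn.1 (by simp [u2, u3, u4, hrs, hrt, hst, Ne.symm hr'.1, Ne.symm hr'.2.1, Ne.symm hr'.2.2,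
          Ne.symm hs'.1, Ne.symm hs'.2.1, Ne.symm hs'.2.2, Ne.symm ht'.1, Ne.symm ht'.2.1, Ne.symm ht'.2.2])
      · intro i
        fin_cases i
        · exact ⟨0, r1⟩
        · exact ⟨1, s1⟩
        · exact ⟨2, t1⟩
  refine wpair_main (k := 3) hf hq x y ?_ ?_ rfl rfl ?_ pow_ne_six
  · intro i
    fin_cases i
    · exact ⟨1, rfl⟩
    · exact ⟨3, rfl⟩
    · exact ⟨4, rfl⟩
    · exact ⟨0, a1⟩
    · exact ⟨5, rfl⟩
    · exact ⟨2, b1⟩
  · intro i
    have key : ∀ i, ∃ j : Fin 6, (y : Perm α) (f i) =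
        (![u, (y : Perm α) u, (y : Perm α) ((y : Perm α) u), f 0, f 1, f 2] : Fin 6 → α) j := by
      intro i
      obtain ⟨j, hj⟩ := hfy i
      rw [hj]
      fin_cases j
      · exact ⟨3, rfl⟩
      · exact ⟨4, rfl⟩
      · exact ⟨5, rfl⟩
    fin_cases i
    · exact ⟨1, rfl⟩
    · exact ⟨2, rfl⟩
    · exact ⟨0, u1⟩
    · exact key 0
    · exact key 1
    · exact key 2
  · intro i
    fin_cases i
    · exact Or.inl ⟨0, rfl⟩
    · exact Or.inl ⟨1, by rw [pow_one]; rfl⟩
    · exact Or.inr ⟨0, rfl⟩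
    · exact Or.inl ⟨2, by rw [pow_two]; rfl⟩
    · exact Or.inr ⟨1, by rw [pow_one]; rfl⟩
    · exact Or.inr ⟨2, by rw [pow_two]; rfl⟩

/-- **Pairs of elements of order 3 of an alternating group.** -/
theorem wpair_alt (h5 : 5 ≤ Fintype.card α) {x y : alternatingGroup α} (hx : orderOf x = 3) (hy : orderOf y = 3) :
    WPair 3 (⊤ : Subgroup (alternatingGroup α)) x y := by
  by_cases h1 : ∃ e, (x : Perm α) e = e
  · by_cases h2 : ∃ f, (y : Perm α) f = f
    · obtain ⟨e, he⟩ := h1
      obtain ⟨f, hf⟩ := h2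
      exact wpair_fix hx hy he hf
    · push Not at h2
      exact (wpair_free h5 hy hx h2).symm
  · push Not at h1
    exact wpair_free h5 hx hy h1

end perm

/-- Automorphisms of order 3 of alternating groups are inner. -/
theorem inner_alt {n : ℕ} (hn : 5 ≤ n) (a : MulAut (alternatingGroup (Fin n))) (ha : orderOf a = 3) :
    a ∈ (MulAut.conj : alternatingGroup (Fin n) →* MulAut (alternatingGroup (Fin n))).range := by
  rcases Nat.lt_or_ge n 7 with h | h
  · have hna := Cfsg.Agent.CpAut.not_comm_alt hn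
    have : IsSimpleGroup (alternatingGroup (Fin n)) :=
      alternatingGroup.isSimpleGroup (by simpa using hn)
    have hinj := conj_injective_of_simple (S := alternatingGroup (Fin n)) hna
    have hcr : Nat.card (MulAut.conj : alternatingGroup (Fin n) →*
        MulAut (alternatingGroup (Fin n))).range = Nat.card (alternatingGroup (Fin n)) :=
      (Nat.card_congr (MonoidHom.ofInjective hinj).toEquiv).symm
    have hmul := Subgroup.card_mul_index (MulAut.conj : alternatingGroup (Fin n) →*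
        MulAut (alternatingGroup (Fin n))).range
    apply mem_conj_range_of_orderOf Nat.prime_three ?_ a ha
    have hidx : (MulAut.conj : alternatingGroup (Fin n) →*
        MulAut (alternatingGroup (Fin n))).range.index ∣ 4 := by
      rw [hcr] at hmul
      interval_cases n
      · rw [Cfsg.Agent.H594.HerDimTwo.card_mulAut_alt] at hmul
        have h5 : Nat.card (alternatingGroup (Fin 5)) = 60 := by
          rw [nat_card_alternatingGroup, Nat.card_eq_fintype_card, Fintype.card_fin]; rfl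
        rw [h5] at hmul
        have : (MulAut.conj : alternatingGroup (Fin 5) →*
          MulAut (alternatingGroup (Fin 5))).range.index = 2 := by omega
        rw [this]; norm_num
      · rw [Cfsg.Agent.H824.ProdLem.card_aut_a6] at hmul
        have h5 : Nat.card (alternatingGroup (Fin 6)) = 360 := by
          rw [nat_card_alternatingGroup, Nat.card_eq_fintype_card, Fintype.card_fin]; rfl
        rw [h5] at hmul
        have : (MulAut.conj : alternatingGroup (Fin 6) →*
          MulAut (alternatingGroup (Fin 6))).range.index = 4 := by omega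
        rw [this]
    intro hd
    have h3 := hd.trans hidx
    norm_num at h3
  · obtain ⟨g, hg⟩ := Cfsg.Agent.CpAut.autInner_alt h Nat.prime_three (by norm_num) a ha
    exact ⟨g, hg.symm⟩

/-- The weak row of the alternating groups, `p = 3`. -/
theorem wrow_alt {n : ℕ} (hn : 5 ≤ n) : WRow 3 (alternatingGroup (Fin n)) := by
  have : IsSimpleGroup (alternatingGroup (Fin n)) :=
    alternatingGroup.isSimpleGroup (by simpa using hn)
  exact WRow.of_inner (Cfsg.Agent.CpAut.not_comm_alt hn) (fun a ha => inner_alt hn a ha)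
    (fun x y hx hy => wpair_alt (by rw [Fintype.card_fin]; exact hn) hx hy)

/-- **The row of the alternating groups (S3826, `p = 3`).** -/
theorem wf_alt {n : ℕ} (hn : 5 ≤ n) : Cfsg.Agent.H533.Wf.WfRow.{u, 0} 3 (alternatingGroup (Fin n)) := by
  have : Fact (Nat.Prime 3) := ⟨Nat.prime_three⟩
  exact WfRow.of_wrow (wrow_alt hn)

end Cfsg.Agent.H220.Wf.Alt
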